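import Cfsg.Agent.SuzPres.ElevenLocal.Subgroup
import Cfsg.Agent.Recognition.MathieuEleven.Main

/-!
The normalizer of the elementary abelian subgroup of order 243 induces the Mathieu group on the eleven subgroups,
and the subgroup is self centralizing.
-/

set_option autoImplicit false
set_option maxRecDepth 100000
set_option linter.style.haveILetI false

namespace Cfsg.Lib.SuzPres.ElevenLocal

open Subgroup Cfsg.Lib.CosetCert Cfsg.Lib.PermCert
open Cfsg.Lib.SuzPres.ThreeCent (yv cy)

local notation "NA" => normalizer (A : Set Cfsg.Spor.Suz)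

theorem exists_image {n : Cfsg.Spor.Suz} (hn : n ∈ NA) (k : Fin 11) :
    ∃ j, n * V k * n⁻¹ = V j ∨ n * V k * n⁻¹ = (V j)⁻¹ :=
  exists_V ((mem_normalizer_iff.mp hn _).mp (V_mem k)) (by rw [fixN_conj, V_fix])

/-- The image of one of the eleven subgroups. -/
noncomputable def sig (n : ↥NA) (k : Fin 11) : Fin 11 := (exists_image n.2 k).choose

theorem sig_spec (n : ↥NA) (k : Fin 11) :
    (n : Cfsg.Spor.Suz) * V k * (n : Cfsg.Spor.Suz)⁻¹ = V (sig n k) ∨
      (n : Cfsg.Spor.Suz) * V k * (n : Cfsg.Spor.Suz)⁻¹ = (V (sig n k))⁻¹ :=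
  (exists_image n.2 k).choose_spec

theorem sig_unique (n : ↥NA) (k j : Fin 11)
    (h : (n : Cfsg.Spor.Suz) * V k * (n : Cfsg.Spor.Suz)⁻¹ = V j ∨
      (n : Cfsg.Spor.Suz) * V k * (n : Cfsg.Spor.Suz)⁻¹ = (V j)⁻¹) : sig n k = j := by
  refine V_unique ?_
  rcases sig_spec n k with a | a <;> rcases h with b | b
  · exact Or.inl (a.symm.trans b)
  · exact Or.inr (a.symm.trans b)
  · exact Or.inr (inv_inj.mp (by rw [inv_inv]; exact a.symm.trans b))
  · exact Or.inl (inv_inj.mp (a.symm.trans b))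

theorem sig_mul (n m : ↥NA) (k : Fin 11) : sig (n * m) k = sig n (sig m k) := by
  refine sig_unique _ _ _ ?_
  have e : ((n * m : ↥NA) : Cfsg.Spor.Suz) * V k * ((n * m : ↥NA) : Cfsg.Spor.Suz)⁻¹ =
      (n : Cfsg.Spor.Suz) * ((m : Cfsg.Spor.Suz) * V k * (m : Cfsg.Spor.Suz)⁻¹) * (n : Cfsg.Spor.Suz)⁻¹ := by
    rw [Subgroup.coe_mul]; group
  rw [e]
  rcases sig_spec m k with a | a <;> rw [a]
  · exact sig_spec n _
  · rw [show (n : Cfsg.Spor.Suz) * (V (sig m k))⁻¹ * (n : Cfsg.Spor.Suz)⁻¹ =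
      ((n : Cfsg.Spor.Suz) * V (sig m k) * (n : Cfsg.Spor.Suz)⁻¹)⁻¹ by group]
    rcases sig_spec n (sig m k) with b | b <;> rw [b]
    · exact Or.inr rfl
    · exact Or.inl (inv_inv _)

theorem sig_one (k : Fin 11) : sig 1 k = k := sig_unique _ _ _ (Or.inl (by simp))

/-- The action on the eleven subgroups. -/
noncomputable def pi : ↥NA →* Equiv.Perm (Fin 11) where
  toFun n := ⟨sig n, sig n⁻¹, fun k => by rw [← sig_mul, inv_mul_cancel, sig_one],
    fun k => by rw [← sig_mul, mul_inv_cancel, sig_one]⟩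
  map_one' := Equiv.ext fun k => sig_one k
  map_mul' n m := Equiv.ext fun k => sig_mul n m k

theorem pi_apply (n : ↥NA) (k : Fin 11) : pi n k = sig n k := rfl

theorem acts_conj {i : ℕ} (hi : i < cWords.length) (t : ℕ) :
    Acts (wval im (cWords.getD i []) * el t * (wval im (cWords.getD i []))⁻¹)
      (fun x => evalW tabs (cWords.getD i []).reverse (codeFun t (evalW tabs (cWords.getD i []) x))) := by
  have hlet : ∀ l ∈ cWords.getD i [], [0, 1, 2, 3, 5, 6].contains l = true := fun l hl =>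
    List.all_eq_true.1 (List.all_eq_true.1 letters_ok.2.1 _ (getD_mem _ _ hi)) l hl
  have h7 : ∀ l ∈ cWords.getD i [], l < 7 := fun l hl => by
    have h := hlet l hl
    rw [List.contains_iff_mem] at h
    simp only [List.mem_cons, List.mem_nil_iff, or_false] at h
    omega
  rw [← wval_reverse im (w := cWords.getD i []) fun l hl => good_im.inv (h7 l hl)]
  exact ((Acts.word (List.all_eq_true.2 fun l hl => decide_eq_true (h7 l hl))).mul (el_acts tables t)).mul
    (Acts.word (List.all_eq_true.2 fun l hl => decide_eq_true (h7 l (List.mem_reverse.mp hl))))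

theorem testBit_foldl (f : ℕ → ℕ) (x : ℕ) : ∀ (l : List ℕ) (m : ℕ),
    (l.foldl (fun m t => m ||| 1 <<< f t) m).testBit x = true ↔ m.testBit x = true ∨ ∃ t ∈ l, f t = x
  | [], m => by simp
  | a :: l, m => by
    rw [List.foldl_cons, testBit_foldl f x l, Nat.testBit_or, Bool.or_eq_true, Nat.one_shiftLeft]
    simp only [Nat.testBit_two_pow, decide_eq_true_eq, List.mem_cons, exists_eq_or_imp, or_assoc]

theorem key_mem {i : ℕ} (hi : i < cWords.length) (x : ℕ) :
    (keyOf (cWords.getD i [])).testBit x = true ↔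
      ∃ a ∈ A, ((((psi (wval im (cWords.getD i []) * a * (wval im (cWords.getD i []))⁻¹))⁻¹)
        (⟨0, by norm_num⟩ : Fin 1782) : Fin 1782) : ℕ) = x := by
  rw [keyOf, testBit_foldl]
  simp only [Nat.zero_testBit, Bool.false_eq_true, false_or, List.mem_range]
  constructor
  · rintro ⟨t, ht, e⟩
    refine ⟨el t, ⟨t, ht, rfl⟩, ?_⟩
    rw [← acts_conj hi t ⟨0, by norm_num⟩]
    exact e
  · rintro ⟨a, ha, e⟩
    obtain ⟨t, ht, rfl⟩ := mem_A0.mp ha
    exact ⟨t, ht, (acts_conj hi t ⟨0, by norm_num⟩).trans e⟩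

theorem keyOf_eq {i : ℕ} (hi : i < 112) : keyOf (cWords.getD i []) = cKeys.getD i 0 := by
  have go : ∀ a l, keys a l = true → a ≤ i → i < a + l → keyOf (cWords.getD i []) = cKeys.getD i 0 :=
    fun a l h h1 h2 => Nat.eq_of_beq_eq_true (List.all_eq_true.1 h i (by rw [List.mem_range'_1]; omega))
  by_cases h : i < 56
  · by_cases h' : i < 28
    · by_cases h'' : i < 14
      · exact go _ _ keys0 (by omega) (by omega)
      · exact go _ _ keys1 (by omega) (by omega)
    · by_cases h'' : i < 42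
      · exact go _ _ keys2 (by omega) (by omega)
      · exact go _ _ keys3 (by omega) (by omega)
  · by_cases h' : i < 84
    · by_cases h'' : i < 70
      · exact go _ _ keys4 (by omega) (by omega)
      · exact go _ _ keys5 (by omega) (by omega)
    · by_cases h'' : i < 98
      · exact go _ _ keys6 (by omega) (by omega)
      · exact go _ _ keys7 (by omega) (by omega)

theorem cKeys_length : cKeys.length = 112 := by decide +kernel

/-- The six letter subgroup meets the normalizer in a subgroup of index at least 112. -/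
theorem meet_bound : 112 * Nat.card ↥(NA ⊓ sixU) ≤ 19595520 := by
  haveI : Finite ↥sixU := boundU.1
  have hc : ∀ i : Fin 112, wval im (cWords.getD i []) ∈ sixU := fun i => wval_memU fun l hl =>
    List.all_eq_true.1 (List.all_eq_true.1 letters_ok.2.1 _ (getD_mem _ _ (by rw [letters_ok.2.2.1]; exact i.2))) l hl
  let f : Fin 112 × ↥(NA ⊓ sixU) → ↥sixU := fun p => ⟨_, mul_mem (hc p.1) (mem_inf.mp p.2.2).2⟩
  have hf : Function.Injective f := by
    rintro ⟨i, n⟩ ⟨j, m⟩ e
    have e' : wval im (cWords.getD i []) * (n : Cfsg.Spor.Suz) = wval im (cWords.getD j []) * (m : Cfsg.Spor.Suz) :=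
      congrArg Subtype.val e
    have hij : i = j := by
      set ci := wval im (cWords.getD i []) with hci
      set cj := wval im (cWords.getD j []) with hcj
      have hN : cj⁻¹ * ci ∈ NA := by
        rw [show cj⁻¹ * ci = (m : Cfsg.Spor.Suz) * (n : Cfsg.Spor.Suz)⁻¹ by
          rw [eq_mul_inv_iff_mul_eq, mul_assoc, e', inv_mul_cancel_left]]
        exact mul_mem (mem_inf.mp m.2).1 (inv_mem (mem_inf.mp n.2).1)
      have hk : keyOf (cWords.getD i []) = keyOf (cWords.getD j []) := by
        refine Nat.eq_of_testBit_eq fun x => Bool.eq_iff_iff.mpr ?_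
        rw [key_mem (by rw [letters_ok.2.2.1]; exact i.2), key_mem (by rw [letters_ok.2.2.1]; exact j.2), ← hci, ← hcj]
        constructor
        · rintro ⟨a, ha, rfl⟩
          refine ⟨cj⁻¹ * ci * a * (cj⁻¹ * ci)⁻¹, (mem_normalizer_iff.mp hN a).mp ha, ?_⟩
          rw [show cj * (cj⁻¹ * ci * a * (cj⁻¹ * ci)⁻¹) * cj⁻¹ = ci * a * ci⁻¹ by group]
        · rintro ⟨a, ha, rfl⟩
          refine ⟨(cj⁻¹ * ci)⁻¹ * a * (cj⁻¹ * ci), (mem_normalizer_iff''.mp hN a).mp ha, ?_⟩
          rw [show ci * ((cj⁻¹ * ci)⁻¹ * a * (cj⁻¹ * ci)) * ci⁻¹ = cj * a * cj⁻¹ by group]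
      rw [keyOf_eq i.2, keyOf_eq j.2, List.getD_eq_getElem _ _ (by rw [cKeys_length]; exact i.2),
        List.getD_eq_getElem _ _ (by rw [cKeys_length]; exact j.2)] at hk
      exact Fin.ext ((List.Nodup.getElem_inj_iff letters_ok.2.2.2.1).mp hk)
    subst hij
    exact Prod.ext rfl (Subtype.ext (mul_left_cancel e'))
  have h := Nat.card_le_card_of_injective f hf
  rwa [Nat.card_prod, Nat.card_fin, card_sixU] at h

theorem normalizer_yv_le : normalizer (zpowers yv : Set Cfsg.Spor.Suz) = sixU := by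
  haveI : Finite ↥sixU := boundU.1
  refine (Subgroup.eq_of_le_of_card_ge (fun g hg => ?_) ?_).symm
  · refine Cfsg.Lib.ZStarApps.mem_normalizer_of_maps fun a ha => ?_
    obtain ⟨i, rfl⟩ := mem_zpowers_iff.mp ha
    rw [← conj_zpow]
    rcases ThreeCent.sixU_maps hg with e | e <;> rw [e]
    · exact zpow_mem (mem_zpowers yv) i
    · exact zpow_mem (inv_mem (mem_zpowers yv)) i
  · rw [ThreeCent.card_normalizer, card_sixU]

theorem card_NA_le : Nat.card ↥NA ≤ 243 * 7920 := by
  classical
  haveI : Finite Cfsg.Spor.Suz := Nat.finite_of_card_ne_zero (by rw [card_suz]; norm_num)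
  let base : Fin 11 → ↥NA := fun j => if h : ∃ n, pi n 0 = j then h.choose else 1
  have hb : ∀ n : ↥NA, pi (base (pi n 0)) 0 = pi n 0 := fun n => by
    have hex : ∃ m, pi m 0 = pi n 0 := ⟨n, rfl⟩
    simp only [base, dif_pos hex]
    exact hex.choose_spec
  have hstab : ∀ n : ↥NA, pi n 0 = 0 → (n : Cfsg.Spor.Suz) ∈ sixU := by
    intro n h0
    rw [← normalizer_yv_le]
    refine Cfsg.Lib.ZStarApps.mem_normalizer_of_maps fun a ha => ?_
    obtain ⟨i, rfl⟩ := mem_zpowers_iff.mp ha
    rw [← conj_zpow]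
    have h := sig_spec n 0
    rw [← pi_apply, h0, V_zero] at h
    rcases h with e | e <;> rw [e]
    · exact zpow_mem (mem_zpowers yv) i
    · exact zpow_mem (inv_mem (mem_zpowers yv)) i
  have hmem : ∀ n : ↥NA, (((base (pi n 0))⁻¹ * n : ↥NA) : Cfsg.Spor.Suz) ∈ NA ⊓ sixU := fun n =>
    mem_inf.mpr ⟨SetLike.coe_mem _, hstab _ (by
      rw [map_mul, map_inv, Equiv.Perm.mul_apply, Equiv.Perm.inv_eq_iff_eq, hb n])⟩
  let f : ↥NA → Fin 11 × ↥(NA ⊓ sixU) := fun n => (pi n 0, ⟨_, hmem n⟩)
  have hf : Function.Injective f := fun a b e => by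
    have e1 : pi a 0 = pi b 0 := congrArg Prod.fst e
    have e2 : (((base (pi a 0))⁻¹ * a : ↥NA) : Cfsg.Spor.Suz) = (((base (pi b 0))⁻¹ * b : ↥NA) : Cfsg.Spor.Suz) :=
      congrArg (fun p => (p.2 : Cfsg.Spor.Suz)) e
    have := Subtype.ext e2
    rw [e1] at this
    exact mul_left_cancel this
  have h := Nat.card_le_card_of_injective f hf
  rw [Nat.card_prod, Nat.card_fin] at h
  have := meet_bound
  omega

theorem conj_gA {k : ℕ} (hk : k < 3) {i : ℕ} (hi : i < 5) :
    wval im (nWords.getD k []) * gA i = el ((nImages.getD k []).getD i 0) * wval im (nWords.getD k []) := by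
  have hn : Acts (wval im (nWords.getD k [])) (fun x => ap (nTabs.getD k 0) x) :=
    (Acts.word (word_letters (List.mem_append_right _ (getD_mem nWords [] (by simpa [nWords] using hk))))).congr
      (List.all_eq_true.1 ntab_ok k (List.mem_range.2 hk))
  have hc : conjOK k = true := by
    interval_cases k
    exacts [conj_ok0, conj_ok1, conj_ok2]
  exact (hn.mul (tables.tab i hi)).eq ((el_acts tables _).mul hn) (List.all_eq_true.1 hc i (List.mem_range.2 hi))

theorem conj_el {k : ℕ} (hk : k < 3) (t : ℕ) :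
    wval im (nWords.getD k []) * el t * (wval im (nWords.getD k []))⁻¹ = el (linCode (nImages.getD k []) t) := by
  set n := wval im (nWords.getD k []) with hn
  have h : ∀ i < 5, MulAut.conj n (gA i) = el ((nImages.getD k []).getD i 0) := fun i hi => by
    rw [MulAut.conj_apply, hn, conj_gA hk hi, mul_inv_cancel_right]
  rw [← MulAut.conj_apply, el, E]
  simp only [map_mul, map_pow, h 0 (by norm_num), h 1 (by norm_num), h 2 (by norm_num), h 3 (by norm_num),
    h 4 (by norm_num), linCode, el_add abelian, el_smul abelian]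

/-- The three normalizing elements. -/
theorem mem_NA {k : ℕ} (hk : k < 3) : wval im (nWords.getD k []) ∈ NA := by
  haveI : Finite Cfsg.Spor.Suz := Nat.finite_of_card_ne_zero (by rw [card_suz]; norm_num)
  refine Cfsg.Lib.ZStarApps.mem_normalizer_of_maps fun a ha => ?_
  obtain ⟨t, -, rfl⟩ := mem_A0.mp ha
  rw [conj_el hk]
  refine mem_A0.mpr ⟨linCode (nImages.getD k []) t, ?_, rfl⟩
  exact addCode_lt _ _

theorem pi_normalizing {k : ℕ} (hk : k < 3) :
    pi ⟨_, mem_NA hk⟩ = perm 11 (nPerms.getD k (0, 0)) := by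
  have hp := List.all_eq_true.1 perm_ok k (List.mem_range.2 hk)
  rw [Bool.and_eq_true] at hp
  refine Equiv.ext fun j => sig_unique _ _ _ ?_
  have hj := List.all_eq_true.1 hp.2 j.1 (List.mem_range.2 j.2)
  rw [Bool.or_eq_true, beq_iff_eq, beq_iff_eq] at hj
  rw [show ((⟨_, mem_NA hk⟩ : ↥NA) : Cfsg.Spor.Suz) = wval im (nWords.getD k []) from rfl, V, conj_el hk, V,
    ← el_neg abelian, perm_apply hp.1]
  rcases hj with e | e
  · exact Or.inl (by rw [e])
  · exact Or.inr (by rw [e])

theorem grp_le_range : grp 11 elevenChain ≤ pi.range := by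
  refine (closure_le _).mpr ?_
  rintro _ ⟨s, hs, rfl⟩
  have hs' : s ∈ elevenLevel0.gens := hs
  obtain ⟨j, hj, rfl⟩ := List.getElem_of_mem hs'
  have hw := List.all_eq_true.1 words_ok j (List.mem_range.2 hj)
  rw [Bool.and_eq_true] at hw
  have hlev := (levelOK (Bool.and_eq_true_iff.mp chain_ok.1).1).gens_valid _ hs'
  have hvalid : ∀ g ∈ (chainWords.getD j []).map (fun k => nPerms.getD k (0, 0)), valid 11 g = true := by
    intro g hg
    obtain ⟨k, hk, rfl⟩ := List.mem_map.1 hg
    have hk3 : k < 3 := decide_eq_true_eq.mp (List.all_eq_true.1 hw.1 k hk)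
    exact (Bool.and_eq_true_iff.mp (List.all_eq_true.1 perm_ok k (List.mem_range.2 hk3))).1
  have e : perm 11 elevenLevel0.gens[j] = wperm 11 ((chainWords.getD j []).map fun k => nPerms.getD k (0, 0)) := by
    refine Equiv.ext fun x => Fin.ext ?_
    rw [perm_apply hlev, wperm_apply hvalid]
    have := List.all_eq_true.1 hw.2 x.1 (List.mem_range.2 x.2)
    rw [List.getD_eq_getElem _ _ hj] at this
    exact beq_iff_eq.mp this
  rw [SetLike.mem_coe, e, wperm, List.map_map]
  refine list_prod_mem fun g hg => ?_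
  obtain ⟨k, hk, rfl⟩ := List.mem_map.1 hg
  exact ⟨_, pi_normalizing (decide_eq_true_eq.mp (List.all_eq_true.1 hw.1 k hk))⟩

theorem A_le_NA : A ≤ NA := le_normalizer

theorem A_le_ker : A.subgroupOf NA ≤ pi.ker := fun n hn =>
  MonoidHom.mem_ker.mpr (Equiv.ext fun k => sig_unique n k k (Or.inl (by
    rw [(comm_A (mem_subgroupOf.mp hn) (V_mem k)).eq, mul_inv_cancel_right])))

/-- The kernel is the subgroup, the image the Mathieu group. -/
theorem pi_spec : pi.ker = A.subgroupOf NA ∧ pi.range = grp 11 elevenChain := by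
  haveI : Finite Cfsg.Spor.Suz := Nat.finite_of_card_ne_zero (by rw [card_suz]; norm_num)
  have h := Subgroup.card_mul_index pi.ker
  rw [Subgroup.index_ker] at h
  have h1 : 243 ≤ Nat.card ↥pi.ker := by
    rw [← card_A, ← Nat.card_congr (subgroupOfEquivOfLe A_le_NA).toEquiv]
    exact Nat.card_le_card_of_injective _ (Subgroup.inclusion_injective A_le_ker)
  have h2 : 7920 ≤ Nat.card ↥pi.range := by
    rw [← chain_ok.2.2.2, ← card_grp chain_ok.1]
    exact Nat.card_le_card_of_injective _ (Subgroup.inclusion_injective grp_le_range)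
  have hle := card_NA_le
  have e1 : Nat.card ↥pi.ker = 243 := by nlinarith
  have e2 : Nat.card ↥pi.range = 7920 := by
    rw [e1] at h
    omega
  refine ⟨(Subgroup.eq_of_le_of_card_ge A_le_ker ?_).symm, (Subgroup.eq_of_le_of_card_ge grp_le_range ?_).symm⟩
  · rw [e1, Nat.card_congr (subgroupOfEquivOfLe A_le_NA).toEquiv, card_A]
  · rw [e2, card_grp chain_ok.1, chain_ok.2.2.2]

theorem centralizer_A : centralizer (A : Set Cfsg.Spor.Suz) = A := by
  refine le_antisymm (fun g hg => ?_) fun a ha => mem_centralizer_iff.mpr fun b hb => (comm_A hb ha).eq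
  have hc : ∀ a ∈ A, g * a * g⁻¹ = a := fun a ha => by
    rw [← mem_centralizer_iff.mp hg a ha, mul_inv_cancel_right]
  haveI : Finite Cfsg.Spor.Suz := Nat.finite_of_card_ne_zero (by rw [card_suz]; norm_num)
  have hgN : g ∈ NA := Cfsg.Lib.ZStarApps.mem_normalizer_of_maps fun a ha => by rw [hc a ha]; exact ha
  have hk : (⟨g, hgN⟩ : ↥NA) ∈ pi.ker :=
    MonoidHom.mem_ker.mpr (Equiv.ext fun k => sig_unique _ k k (Or.inl (hc _ (V_mem k))))
  rw [pi_spec.1] at hk
  exact hk

theorem A_le_sixU : A ≤ sixU := fun a ha =>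
  ThreeCent.card_cy.2 (mem_centralizer_singleton_iff.mpr (comm_A ha yv_mem_A))

/-- The quotient of the normalizer is the Mathieu group of degree eleven. -/
theorem quotient_M11 : ∃ _ : (A.subgroupOf NA).Normal, Cfsg.Spor.IsoM11 (↥NA ⧸ A.subgroupOf NA) := by
  haveI hnorm : (A.subgroupOf NA).Normal := by rw [← pi_spec.1]; infer_instance
  refine ⟨hnorm, ?_⟩
  haveI : IsSimpleGroup ↥(grp 11 elevenChain) :=
    isSimpleGroup_of_chain (n := 11) (p := 11) (by norm_num) (wit := elevenWit)
      (L := elevenLevel0) (M := elevenLevel1) (r := [elevenLevel2, elevenLevel3]) chain_ok.1 chain_ok.2.1 chain_ok.2.2.1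
  obtain ⟨e⟩ := Cfsg.Lib.MathieuEleven.equiv_M11 (G := ↥(grp 11 elevenChain))
    ((card_grp chain_ok.1).trans chain_ok.2.2.2)
  exact ⟨((QuotientGroup.quotientMulEquivOfEq pi_spec.1.symm).trans
    (QuotientGroup.quotientKerEquivRange pi)).trans ((MulEquiv.subgroupCongr pi_spec.2).trans e)⟩

end Cfsg.Lib.SuzPres.ElevenLocal
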