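import Cfsg.Agent.SuzPres.ThreeCent.Bound
import Cfsg.Agent.SuzPres.RankThree.Model
import Cfsg.Agent.SuzPres.ElevenLocal.Data

/-!
Elements of the presented Suzuki group as functions on the 1782 points, and the subgroup generated by five
commuting elements of order three, indexed by ternary codes.
-/

set_option autoImplicit false

namespace Cfsg.Lib.SuzPres.ElevenLocal

open Cfsg.Lib.CosetCert Cfsg.Lib.PermCert
open Cfsg.Lib.SuzPres.RankThree (psi_injective)

/-- A function giving the action of the inverse of an element. -/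
def Acts (g : Cfsg.Spor.Suz) (f : ℕ → ℕ) : Prop := ∀ x : Fin 1782, f x = (((psi g)⁻¹ x : Fin 1782) : ℕ)

theorem Acts.one : Acts 1 id := fun x => by simp

theorem Acts.mul {g h : Cfsg.Spor.Suz} {f k : ℕ → ℕ} (hg : Acts g f) (hh : Acts h k) :
    Acts (g * h) (fun x => k (f x)) := fun x => by
  show k (f x) = _
  rw [hg x, hh ((psi g)⁻¹ x), map_mul, mul_inv_rev, Equiv.Perm.mul_apply]

theorem Acts.eq {g h : Cfsg.Spor.Suz} {f k : ℕ → ℕ} (hg : Acts g f) (hh : Acts h k)
    (e : ((List.range 1782).all fun x => Nat.beq (f x) (k x)) = true) : g = h := by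
  refine psi_injective (inv_injective (Equiv.ext fun x => Fin.ext ?_))
  rw [← hg x, ← hh x]
  exact Nat.eq_of_beq_eq_true (List.all_eq_true.1 e x.1 (List.mem_range.2 x.2))

theorem Acts.congr {g : Cfsg.Spor.Suz} {f k : ℕ → ℕ} (hg : Acts g f)
    (e : ((List.range 1782).all fun x => Nat.beq (k x) (f x)) = true) : Acts g k := fun x =>
  (Nat.eq_of_beq_eq_true (List.all_eq_true.1 e x.1 (List.mem_range.2 x.2))).trans (hg x)

theorem Acts.word {w : List ℕ} (hw : (w.all fun l => decide (l < 7)) = true) : Acts (wval im w) (evalW tabs w) :=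
  fun x => (evalW_apply im psi tabs psi_im w (fun l hl => decide_eq_true_eq.mp (List.all_eq_true.1 hw l hl)) x).symm

/-- The number of fixed points. -/
noncomputable def fixN (g : Cfsg.Spor.Suz) : ℕ := Nat.card {x : Fin 1782 // psi g x = x}

theorem fixN_conj (n g : Cfsg.Spor.Suz) : fixN (n * g * n⁻¹) = fixN g := by
  refine Nat.card_congr ((Equiv.subtypeEquiv (psi n) fun x => ?_).symm)
  simp only [map_mul, map_inv, Equiv.Perm.mul_apply, ← Equiv.Perm.mul_apply (psi n)⁻¹, inv_mul_cancel, Equiv.Perm.one_apply,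
    EmbeddingLike.apply_eq_iff_eq]

theorem fixN_inv (g : Cfsg.Spor.Suz) : fixN g⁻¹ = fixN g := by
  refine Nat.card_congr (Equiv.subtypeEquivRight fun x => ?_)
  rw [map_inv, Equiv.Perm.inv_eq_iff_eq]
  exact ⟨Eq.symm, Eq.symm⟩

theorem Acts.fixN_eq {g : Cfsg.Spor.Suz} {f : ℕ → ℕ} (hg : Acts g f) :
    fixN g = ((List.range 1782).filter fun x => Nat.beq (f x) x).length := by
  classical
  rw [← fixN_inv, fixN, Nat.card_eq_fintype_card, Fintype.card_subtype,
    ← List.toFinset_card_of_nodup (List.nodup_range.filter _)]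
  refine Finset.card_bij (fun x _ => (x : ℕ)) (fun x hx => ?_) (fun a _ b _ e => Fin.ext e) fun b hb => ?_
  · simp only [Finset.mem_filter, Finset.mem_univ, true_and, map_inv] at hx
    simp only [List.mem_toFinset, List.mem_filter, List.mem_range]
    exact ⟨x.2, Nat.beq_eq.mpr (by rw [hg x, hx]) ⟩
  · simp only [List.mem_toFinset, List.mem_filter, List.mem_range] at hb
    refine ⟨⟨b, hb.1⟩, ?_, rfl⟩
    simp only [Finset.mem_filter, Finset.mem_univ, true_and, map_inv]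
    exact Fin.ext ((hg ⟨b, hb.1⟩).symm.trans (Nat.eq_of_beq_eq_true hb.2))

/-- One of the five generators. -/
def gA (i : ℕ) : Cfsg.Spor.Suz := wval im (aWords.getD i [])

/-- Its table. -/
def tA (i : ℕ) : ℕ → ℕ := fun x => ap (aTabs.getD i 0) x

/-- The product with given exponents. -/
def E (d : ℕ → ℕ) : Cfsg.Spor.Suz := gA 0 ^ d 0 * gA 1 ^ d 1 * gA 2 ^ d 2 * gA 3 ^ d 3 * gA 4 ^ d 4

/-- A ternary digit. -/
def dig (t i : ℕ) : ℕ := t / 3 ^ i % 3

/-- The element of a code. -/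
def el (t : ℕ) : Cfsg.Spor.Suz := E (dig t)

/-- The code of a product. -/
def addCode (s t : ℕ) : ℕ :=
  (dig s 0 + dig t 0) % 3 + 3 * ((dig s 1 + dig t 1) % 3) + 9 * ((dig s 2 + dig t 2) % 3) +
    27 * ((dig s 3 + dig t 3) % 3) + 81 * ((dig s 4 + dig t 4) % 3)

/-- The code of a power. -/
def smul : ℕ → ℕ → ℕ
  | 0, _ => 0
  | d + 1, s => addCode (smul d s) s

/-- The code of the inverse. -/
def negCode (t : ℕ) : ℕ := smul 2 t

theorem addCode_lt (s t : ℕ) : addCode s t < 243 := by simp only [addCode]; omega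

theorem smul_lt : ∀ d s, smul d s < 243
  | 0, _ => by norm_num [smul]
  | _ + 1, _ => addCode_lt _ _

theorem dig_addCode (s t : ℕ) : ∀ i < 5, dig (addCode s t) i = (dig s i + dig t i) % 3 := by
  intro i hi
  have h : ∀ a b c d e : ℕ, a < 3 → b < 3 → c < 3 → d < 3 → e < 3 →
      dig (a + 3 * b + 9 * c + 27 * d + 81 * e) 0 = a ∧ dig (a + 3 * b + 9 * c + 27 * d + 81 * e) 1 = b ∧
      dig (a + 3 * b + 9 * c + 27 * d + 81 * e) 2 = c ∧ dig (a + 3 * b + 9 * c + 27 * d + 81 * e) 3 = d ∧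
      dig (a + 3 * b + 9 * c + 27 * d + 81 * e) 4 = e := by
    intro a b c d e _ _ _ _ _
    simp only [dig, pow_zero, pow_one, Nat.div_one, show (3 : ℕ) ^ 2 = 9 by norm_num,
      show (3 : ℕ) ^ 3 = 27 by norm_num, show (3 : ℕ) ^ 4 = 81 by norm_num]
    omega
  obtain ⟨h0, h1, h2, h3, h4⟩ := h ((dig s 0 + dig t 0) % 3) ((dig s 1 + dig t 1) % 3) ((dig s 2 + dig t 2) % 3)
    ((dig s 3 + dig t 3) % 3) ((dig s 4 + dig t 4) % 3) (Nat.mod_lt _ (by norm_num)) (Nat.mod_lt _ (by norm_num))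
    (Nat.mod_lt _ (by norm_num)) (Nat.mod_lt _ (by norm_num)) (Nat.mod_lt _ (by norm_num))
  interval_cases i <;> [exact h0; exact h1; exact h2; exact h3; exact h4]

theorem E_zero {d : ℕ → ℕ} (h : ∀ i < 5, d i = 0) : E d = 1 := by
  simp [E, h 0 (by norm_num), h 1 (by norm_num), h 2 (by norm_num), h 3 (by norm_num), h 4 (by norm_num)]

theorem el_zero : el 0 = 1 := E_zero fun i _ => by simp [dig]

/-- The iterate of a table. -/
def stepT (T : ℕ) : ℕ → ℕ → ℕ
  | 0, x => x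
  | d + 1, x => stepT T d (ap T x)

/-- The action of a code. -/
def codeFun (t x : ℕ) : ℕ :=
  stepT aTab4 (t / 81 % 3) (stepT aTab3 (t / 27 % 3) (stepT aTab2 (t / 9 % 3) (stepT aTab1 (t / 3 % 3)
    (stepT aTab0 (t % 3) x))))

theorem Acts.iter {g : Cfsg.Spor.Suz} {T : ℕ} (hg : Acts g (fun x => ap T x)) :
    ∀ d, Acts (g ^ d) (stepT T d)
  | 0 => by rw [pow_zero]; exact Acts.one
  | d + 1 => by rw [pow_succ']; exact hg.mul (Acts.iter hg d)

/-- The facts checked on tables. -/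
structure Tables : Prop where
  tab : ∀ i < 5, Acts (gA i) (tA i)

theorem el_acts (h : Tables) (t : ℕ) : Acts (el t) (codeFun t) := by
  have h0 := (show Acts (gA 0) (fun x => ap aTab0 x) from h.tab 0 (by norm_num)).iter (t % 3)
  have h1 := (show Acts (gA 1) (fun x => ap aTab1 x) from h.tab 1 (by norm_num)).iter (t / 3 % 3)
  have h2 := (show Acts (gA 2) (fun x => ap aTab2 x) from h.tab 2 (by norm_num)).iter (t / 9 % 3)
  have h3 := (show Acts (gA 3) (fun x => ap aTab3 x) from h.tab 3 (by norm_num)).iter (t / 27 % 3)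
  have h4 := (show Acts (gA 4) (fun x => ap aTab4 x) from h.tab 4 (by norm_num)).iter (t / 81 % 3)
  have := (((h0.mul h1).mul h2).mul h3).mul h4
  show Acts _ (fun x => codeFun t x)
  simpa only [codeFun, el, E, dig, pow_zero, pow_one, Nat.div_one, show (3 : ℕ) ^ 2 = 9 by norm_num,
    show (3 : ℕ) ^ 3 = 27 by norm_num, show (3 : ℕ) ^ 4 = 81 by norm_num] using this

/-- The five generators commute and have exponent three. -/
structure Abelian : Prop where
  comm : ∀ i < 5, ∀ j < 5, Commute (gA i) (gA j)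
  cube : ∀ i < 5, gA i ^ 3 = 1

theorem el_add (h : Abelian) (s t : ℕ) : el (addCode s t) = el s * el t := by
  have hp : ∀ i < 5, gA i ^ dig (addCode s t) i = gA i ^ dig s i * gA i ^ dig t i := fun i hi => by
    rw [dig_addCode s t i hi, ← pow_eq_pow_mod _ (h.cube i hi), pow_add]
  have hc : ∀ i < 5, ∀ j < 5, ∀ a b : ℕ, Commute (gA i ^ a) (gA j ^ b) := fun i hi j hj a b =>
    ((h.comm i hi j hj).pow_left a).pow_right b
  simp only [el, E, hp 0 (by norm_num), hp 1 (by norm_num), hp 2 (by norm_num), hp 3 (by norm_num), hp 4 (by norm_num)]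
  set a0 := gA 0 ^ dig s 0
  set b0 := gA 0 ^ dig t 0
  set a1 := gA 1 ^ dig s 1
  set b1 := gA 1 ^ dig t 1
  set a2 := gA 2 ^ dig s 2
  set b2 := gA 2 ^ dig t 2
  set a3 := gA 3 ^ dig s 3
  set b3 := gA 3 ^ dig t 3
  have c1 : b0 * a1 = a1 * b0 := hc 0 (by norm_num) 1 (by norm_num) _ _
  have c2 : b1 * a2 = a2 * b1 := hc 1 (by norm_num) 2 (by norm_num) _ _
  have c2' : b0 * a2 = a2 * b0 := hc 0 (by norm_num) 2 (by norm_num) _ _
  have c3 : b2 * a3 = a3 * b2 := hc 2 (by norm_num) 3 (by norm_num) _ _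
  have c3' : b1 * a3 = a3 * b1 := hc 1 (by norm_num) 3 (by norm_num) _ _
  have c3'' : b0 * a3 = a3 * b0 := hc 0 (by norm_num) 3 (by norm_num) _ _
  have c4 : ∀ i < 4, ∀ a b : ℕ, gA i ^ a * gA 4 ^ b = gA 4 ^ b * gA i ^ a := fun i hi a b =>
    hc i (by omega) 4 (by norm_num) a b
  set a4 := gA 4 ^ dig s 4 with ha4
  set b4 := gA 4 ^ dig t 4
  have d0 : b0 * a4 = a4 * b0 := c4 0 (by norm_num) _ _
  have d1 : b1 * a4 = a4 * b1 := c4 1 (by norm_num) _ _
  have d2 : b2 * a4 = a4 * b2 := c4 2 (by norm_num) _ _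
  have d3 : b3 * a4 = a4 * b3 := c4 3 (by norm_num) _ _
  calc a0 * b0 * (a1 * b1) * (a2 * b2) * (a3 * b3) * (a4 * b4)
      = a0 * (b0 * a1) * b1 * (a2 * b2) * (a3 * b3) * (a4 * b4) := by simp only [mul_assoc]
    _ = a0 * a1 * b0 * (b1 * a2) * b2 * (a3 * b3) * (a4 * b4) := by rw [c1]; simp only [mul_assoc]
    _ = a0 * a1 * (b0 * a2) * b1 * (b2 * a3) * b3 * (a4 * b4) := by rw [c2]; simp only [mul_assoc]
    _ = a0 * a1 * a2 * b0 * (b1 * a3) * b2 * (b3 * a4) * b4 := by rw [c2', c3]; simp only [mul_assoc]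
    _ = a0 * a1 * a2 * (b0 * a3) * b1 * (b2 * a4) * b3 * b4 := by rw [c3', d3]; simp only [mul_assoc]
    _ = a0 * a1 * a2 * a3 * b0 * (b1 * a4) * b2 * b3 * b4 := by rw [c3'', d2]; simp only [mul_assoc]
    _ = a0 * a1 * a2 * a3 * (b0 * a4) * b1 * b2 * b3 * b4 := by rw [d1]; simp only [mul_assoc]
    _ = a0 * a1 * a2 * a3 * a4 * (b0 * b1 * b2 * b3 * b4) := by rw [d0]; simp only [mul_assoc]

theorem el_smul (h : Abelian) (s : ℕ) : ∀ d, el (smul d s) = el s ^ d
  | 0 => by rw [smul, el_zero, pow_zero]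
  | d + 1 => by rw [smul, el_add h, el_smul h s d, pow_succ]

theorem el_cube (h : Abelian) (t : ℕ) : el t ^ 3 = 1 := by
  rw [← el_smul h]
  refine E_zero fun i hi => ?_
  simp only [smul]
  rw [dig_addCode _ _ i hi, dig_addCode _ _ i hi, dig_addCode _ _ i hi]
  simp only [dig, Nat.zero_div, Nat.zero_mod]
  omega

theorem el_neg (h : Abelian) (t : ℕ) : el (negCode t) = (el t)⁻¹ := by
  rw [negCode, el_smul h]
  exact eq_inv_of_mul_eq_one_left (by rw [← pow_succ, el_cube h])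

/-- The subgroup of the codes. -/
def A0 (h : Abelian) : Subgroup Cfsg.Spor.Suz where
  carrier := {g | ∃ t < 243, el t = g}
  mul_mem' := by
    rintro a b ⟨s, -, rfl⟩ ⟨t, -, rfl⟩
    exact ⟨_, addCode_lt s t, el_add h s t⟩
  one_mem' := ⟨0, by norm_num, el_zero⟩
  inv_mem' := by
    rintro a ⟨t, -, rfl⟩
    exact ⟨_, smul_lt 2 t, el_neg h t⟩

theorem mem_A0 {h : Abelian} {g : Cfsg.Spor.Suz} : g ∈ A0 h ↔ ∃ t < 243, el t = g := Iff.rfl

theorem el_comm (h : Abelian) (s t : ℕ) : Commute (el s) (el t) := by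
  show el s * el t = el t * el s
  rw [← el_add h, ← el_add h]
  simp only [addCode, Nat.add_comm]

end Cfsg.Lib.SuzPres.ElevenLocal
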