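import Cfsg.Agent.SuzPres.ElevenLocal.Acts
import Cfsg.Agent.PermCert.Chain

/-!
The finite checks on the tables of the five commuting elements of order three.
-/

set_option autoImplicit false
set_option maxRecDepth 100000
set_option maxHeartbeats 1000000

namespace Cfsg.Lib.SuzPres.ElevenLocal

open Cfsg.Lib.CosetCert Cfsg.Lib.PermCert

/-- The letters of the words are in range. -/
theorem letters_ok : ((aWords ++ nWords).all fun w => w.all fun l => decide (l < 7)) = true ∧
    (cWords.all fun w => w.all fun l => [0, 1, 2, 3, 5, 6].contains l) = true ∧
    cWords.length = 112 ∧ cKeys.Nodup ∧ aWords.getD 0 [] = Cfsg.Lib.SuzukiType.Unique.yWd := by decide +kernel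

/-- Agreement of two functions on the points. -/
def same (f k : ℕ → ℕ) : Bool := (List.range 1782).all fun x => Nat.beq (f x) (k x)

theorem tab_ok : ((List.range 5).all fun i => same (tA i) (evalW tabs (aWords.getD i []))) = true := by decide +kernel

theorem ntab_ok : ((List.range 3).all fun k => same (fun x => ap (nTabs.getD k 0) x) (evalW tabs (nWords.getD k []))) = true := by
  decide +kernel

theorem comm_ok : ((List.range 5).all fun i => (List.range i).all fun j =>
    same (fun x => tA i (tA j x)) (fun x => tA j (tA i x))) = true := by decide +kernel

theorem cube_ok : ((List.range 5).all fun i => same (fun x => stepT (aTabs.getD i 0) 3 x) id) = true := by decide +kernel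

theorem inj_ok : ((List.range 243).map fun t => (codeFun t 0, codeFun t 79, codeFun t 93)).Nodup := by decide +kernel

/-- The code occurs among the eleven subgroups. -/
def allowed (t : ℕ) : Bool := elevenCodes.contains t || elevenCodes.contains (negCode t)

/-- The number of fixed points of a code. -/
def cnt (t : ℕ) : ℕ := ((List.range 1782).filter fun x => Nat.beq (codeFun t x) x).length

theorem eleven_fix : (elevenCodes.all fun t => decide (t < 243) && Nat.beq (cnt t) 162) = true := by decide +kernel

/-- A chunk of codes: the only ones with 162 fixed points are allowed. -/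
def chunk (a len : ℕ) : Bool :=
  (List.range' a len).all fun t => Nat.blt (negCode t) t || allowed t || !Nat.beq (cnt t) 162

theorem chunk0 : chunk 0 25 = true := by decide +kernel

theorem chunk1 : chunk 25 25 = true := by decide +kernel

theorem chunk2 : chunk 50 25 = true := by decide +kernel

theorem chunk3 : chunk 75 25 = true := by decide +kernel

theorem chunk4 : chunk 100 25 = true := by decide +kernel

theorem chunk5 : chunk 125 30 = true := by decide +kernel

theorem chunk6 : chunk 155 30 = true := by decide +kernel

theorem chunk7 : chunk 185 30 = true := by decide +kernel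

theorem chunk8 : chunk 215 28 = true := by decide +kernel

/-- The conjugation equations of one normalizing element. -/
def conjOK (k : ℕ) : Bool :=
  (List.range 5).all fun i => same (fun x => tA i (ap (nTabs.getD k 0) x))
    (fun x => ap (nTabs.getD k 0) (codeFun ((nImages.getD k []).getD i 0) x))

theorem conj_ok0 : conjOK 0 = true := by decide +kernel

theorem conj_ok1 : conjOK 1 = true := by decide +kernel

theorem conj_ok2 : conjOK 2 = true := by decide +kernel

/-- The code of the image of a code. -/
def linCode (imgs : List ℕ) (t : ℕ) : ℕ :=
  addCode (addCode (addCode (addCode (smul (dig t 0) (imgs.getD 0 0)) (smul (dig t 1) (imgs.getD 1 0)))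
    (smul (dig t 2) (imgs.getD 2 0))) (smul (dig t 3) (imgs.getD 3 0))) (smul (dig t 4) (imgs.getD 4 0))

theorem perm_ok : ((List.range 3).all fun k => valid 11 (nPerms.getD k (0, 0)) && (List.range 11).all fun j =>
    (linCode (nImages.getD k []) (elevenCodes.getD j 0) == elevenCodes.getD (ap (nPerms.getD k (0, 0)).1 j) 0 ||
     linCode (nImages.getD k []) (elevenCodes.getD j 0) == negCode (elevenCodes.getD (ap (nPerms.getD k (0, 0)).1 j) 0)))
    = true := by decide +kernel

theorem codes_ok : (elevenCodes ++ elevenCodes.map negCode).Nodup ∧ elevenCodes.length = 11 ∧
    elevenCodes.getD 0 0 = 1 ∧ (List.range 243).all (fun t => Nat.blt (negCode t) 243 && negCode (negCode t) == t) = true := by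
  decide +kernel

theorem words_ok : ((List.range elevenLevel0.gens.length).all fun j => (chainWords.getD j []).all (fun k => decide (k < 3)) &&
    (List.range 11).all fun x =>
      ap (elevenLevel0.gens.getD j (0, 0)).1 x == evalWord ((chainWords.getD j []).map fun k => nPerms.getD k (0, 0)) x)
    = true := by decide +kernel

theorem chain_ok : check 11 elevenChain = true ∧ twoTransCheck elevenChain = true ∧
    primeCheck 11 11 elevenWit elevenChain = true ∧ size elevenChain = 7920 := by decide +kernel

/-- The orbit of the first point under a conjugate, as a mask. -/
def keyOf (h : List ℕ) : ℕ :=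
  (List.range 243).foldl (fun m t => m ||| 1 <<< evalW tabs h.reverse (codeFun t (evalW tabs h 0))) 0

/-- A chunk of keys. -/
def keys (a len : ℕ) : Bool := (List.range' a len).all fun i => Nat.beq (keyOf (cWords.getD i [])) (cKeys.getD i 0)

theorem keys0 : keys 0 14 = true := by decide +kernel

theorem keys1 : keys 14 14 = true := by decide +kernel

theorem keys2 : keys 28 14 = true := by decide +kernel

theorem keys3 : keys 42 14 = true := by decide +kernel

theorem keys4 : keys 56 14 = true := by decide +kernel

theorem keys5 : keys 70 14 = true := by decide +kernel

theorem keys6 : keys 84 14 = true := by decide +kernel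

theorem keys7 : keys 98 14 = true := by decide +kernel

end Cfsg.Lib.SuzPres.ElevenLocal
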