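import Cfsg.Agent.SuzPres.ElevenLocal.Checks

/-!
The elementary abelian subgroup of order 243 and its eleven subgroups of order three with 162 fixed points.
-/

set_option autoImplicit false
set_option maxRecDepth 100000

namespace Cfsg.Lib.SuzPres.ElevenLocal

open Subgroup Cfsg.Lib.CosetCert Cfsg.Lib.PermCert
open Cfsg.Lib.SuzPres.ThreeCent (yv cy)
open Cfsg.Lib.SuzukiType.Unique (yWd)

theorem word_letters {w : List ℕ} (hw : w ∈ aWords ++ nWords) : (w.all fun l => decide (l < 7)) = true :=
  List.all_eq_true.1 letters_ok.1 w hw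

theorem getD_mem {α : Type*} (l : List α) (d : α) {i : ℕ} (h : i < l.length) : l.getD i d ∈ l := by
  rw [List.getD_eq_getElem l d h]
  exact List.getElem_mem h

theorem tables : Tables := ⟨fun i hi =>
  (Acts.word (word_letters (List.mem_append_left _ (getD_mem aWords [] (by simpa [aWords] using hi))))).congr
    (List.all_eq_true.1 tab_ok i (List.mem_range.2 hi))⟩

theorem comm_lt {i j : ℕ} (hi : i < 5) (hj : j < i) : Commute (gA i) (gA j) := by
  have hc := List.all_eq_true.1 (List.all_eq_true.1 comm_ok i (List.mem_range.2 hi)) j (List.mem_range.2 hj)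
  exact (((tables.tab j (hj.trans hi)).mul (tables.tab i hi)).eq ((tables.tab i hi).mul (tables.tab j (hj.trans hi))) hc).symm

theorem abelian : Abelian := by
  refine ⟨fun i hi j hj => ?_, fun i hi => ?_⟩
  · rcases lt_trichotomy i j with h | rfl | h
    · exact (comm_lt hj h).symm
    · exact Commute.refl _
    · exact comm_lt hi h
  · exact ((show Acts (gA i) (fun x => ap (aTabs.getD i 0) x) from tables.tab i hi).iter 3).eq Acts.one
      (List.all_eq_true.1 cube_ok i (List.mem_range.2 hi))

/-- The elementary abelian subgroup. -/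
def A : Subgroup Cfsg.Spor.Suz := A0 abelian

theorem el_inj {s t : ℕ} (hs : s < 243) (ht : t < 243) (h : el s = el t) : s = t := by
  have e : ∀ x : Fin 1782, codeFun s x = codeFun t x := fun x => by
    rw [el_acts tables s x, el_acts tables t x, h]
  refine List.inj_on_of_nodup_map inj_ok (List.mem_range.2 hs) (List.mem_range.2 ht) ?_
  show (codeFun s 0, codeFun s 79, codeFun s 93) = _
  rw [e ⟨0, by norm_num⟩, e ⟨79, by norm_num⟩, e ⟨93, by norm_num⟩]

theorem card_A : Nat.card ↥A = 243 := by
  refine (Nat.card_congr (Equiv.ofBijective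
    (fun t : Fin 243 => (⟨el t, t, t.2, rfl⟩ : ↥A)) ⟨fun s t h => ?_, ?_⟩)).symm.trans (Nat.card_fin 243)
  · exact Fin.ext (el_inj s.2 t.2 (congrArg Subtype.val h))
  · rintro ⟨g, t, ht, rfl⟩
    exact ⟨⟨t, ht⟩, rfl⟩

theorem comm_A {a b : Cfsg.Spor.Suz} (ha : a ∈ A) (hb : b ∈ A) : Commute a b := by
  obtain ⟨s, -, rfl⟩ := mem_A0.mp ha
  obtain ⟨t, -, rfl⟩ := mem_A0.mp hb
  exact el_comm abelian s t

theorem elementary_A : Cfsg.IsElementaryAbelian 3 A :=
  ⟨⟨⟨fun a b => Subtype.ext (comm_A a.2 b.2)⟩⟩, fun a ha => by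
    obtain ⟨t, -, rfl⟩ := mem_A0.mp ha
    exact el_cube abelian t⟩

/-- The first of the eleven is the element of order three of the six letter subgroup. -/
theorem el_one : el 1 = yv := by
  have : el 1 = gA 0 := by simp [el, E, dig]
  rw [this, gA, letters_ok.2.2.2.2]
  rfl

theorem yv_mem_A : yv ∈ A := ⟨1, by norm_num, el_one⟩

/-- A generator of one of the eleven subgroups. -/
def V (k : Fin 11) : Cfsg.Spor.Suz := el (elevenCodes.getD k.val 0)

theorem code_lt (k : Fin 11) : elevenCodes.getD k.val 0 < 243 := by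
  have h := List.all_eq_true.1 eleven_fix _ (getD_mem elevenCodes 0 (by rw [codes_ok.2.1]; exact k.2))
  rw [Bool.and_eq_true, decide_eq_true_eq] at h
  exact h.1

theorem V_mem (k : Fin 11) : V k ∈ A := ⟨_, code_lt k, rfl⟩

theorem V_zero : V 0 = yv := by
  rw [V, show ((0 : Fin 11) : ℕ) = 0 from rfl, codes_ok.2.2.1, el_one]

theorem fixN_el {t : ℕ} : fixN (el t) = cnt t := (el_acts tables t).fixN_eq

theorem V_fix (k : Fin 11) : fixN (V k) = 162 := by
  have h := List.all_eq_true.1 eleven_fix _ (getD_mem elevenCodes 0 (by rw [codes_ok.2.1]; exact k.2))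
  rw [Bool.and_eq_true] at h
  rw [V, fixN_el]
  exact Nat.eq_of_beq_eq_true h.2

theorem chunk_all {t : ℕ} (ht : t < 243) :
    (Nat.blt (negCode t) t || allowed t || !Nat.beq (cnt t) 162) = true := by
  have go : ∀ a l, chunk a l = true → a ≤ t → t < a + l →
      (Nat.blt (negCode t) t || allowed t || !Nat.beq (cnt t) 162) = true := fun a l h h1 h2 =>
    List.all_eq_true.1 h t (by rw [List.mem_range'_1]; omega)
  by_cases h : t < 125
  · by_cases h' : t < 50
    · by_cases h'' : t < 25
      · exact go _ _ chunk0 (by omega) (by omega)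
      · exact go _ _ chunk1 (by omega) (by omega)
    · by_cases h'' : t < 75
      · exact go _ _ chunk2 (by omega) (by omega)
      · by_cases h3 : t < 100
        · exact go _ _ chunk3 (by omega) (by omega)
        · exact go _ _ chunk4 (by omega) (by omega)
  · by_cases h' : t < 185
    · by_cases h'' : t < 155
      · exact go _ _ chunk5 (by omega) (by omega)
      · exact go _ _ chunk6 (by omega) (by omega)
    · by_cases h'' : t < 215
      · exact go _ _ chunk7 (by omega) (by omega)
      · exact go _ _ chunk8 (by omega) (by omega)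

theorem neg_facts {t : ℕ} (ht : t < 243) : negCode (negCode t) = t :=
  beq_iff_eq.mp (Bool.and_eq_true_iff.mp (List.all_eq_true.1 codes_ok.2.2.2 t (List.mem_range.2 ht))).2

theorem allowed_of_fix {t : ℕ} (ht : t < 243) (h : fixN (el t) = 162) : allowed t = true := by
  have key : ∀ s, s < 243 → ¬ negCode s < s → fixN (el s) = 162 → allowed s = true := by
    intro s hs hlt hfix
    have hc := chunk_all hs
    simp only [Bool.or_eq_true, Bool.not_eq_true'] at hc
    rcases hc with (hc | hc) | hc
    · exact absurd (Nat.le_of_ble_eq_true hc) hlt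
    · exact hc
    · have : Nat.beq (cnt s) 162 = true := Nat.beq_eq.mpr (fixN_el.symm.trans hfix)
      rw [this] at hc
      exact absurd hc (by decide)
  by_cases hlt : negCode t < t
  · have h2 : fixN (el (negCode t)) = 162 := by rw [el_neg abelian, fixN_inv, h]
    have := key (negCode t) (smul_lt 2 t) (by rw [neg_facts ht]; omega) h2
    rw [allowed, neg_facts ht, Bool.or_comm] at this
    exact this
  · exact key t ht hlt h

theorem exists_V {a : Cfsg.Spor.Suz} (ha : a ∈ A) (h : fixN a = 162) : ∃ k, a = V k ∨ a = (V k)⁻¹ := by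
  obtain ⟨t, ht, rfl⟩ := mem_A0.mp ha
  have hal := allowed_of_fix ht h
  rw [allowed, Bool.or_eq_true, List.contains_iff_mem, List.contains_iff_mem] at hal
  rcases hal with hm | hm
  · obtain ⟨i, hi, e⟩ := List.getElem_of_mem hm
    refine ⟨⟨i, by rw [← codes_ok.2.1]; exact hi⟩, Or.inl ?_⟩
    rw [V, List.getD_eq_getElem _ _ hi, e]
  · obtain ⟨i, hi, e⟩ := List.getElem_of_mem hm
    refine ⟨⟨i, by rw [← codes_ok.2.1]; exact hi⟩, Or.inr ?_⟩
    rw [V, List.getD_eq_getElem _ _ hi, e, el_neg abelian, inv_inv]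

theorem V_unique {i j : Fin 11} (h : V i = V j ∨ V i = (V j)⁻¹) : i = j := by
  have hn := List.nodup_append.mp codes_ok.1
  have hi : i.val < elevenCodes.length := by rw [codes_ok.2.1]; exact i.2
  have hj : j.val < elevenCodes.length := by rw [codes_ok.2.1]; exact j.2
  rcases h with h | h
  · have e := el_inj (code_lt i) (code_lt j) h
    rw [List.getD_eq_getElem _ _ hi, List.getD_eq_getElem _ _ hj] at e
    exact Fin.ext ((List.Nodup.getElem_inj_iff hn.1).mp e)
  · rw [V, V, ← el_neg abelian] at h
    have e := el_inj (code_lt i) (smul_lt 2 _) h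
    exact absurd e (hn.2.2 _ (getD_mem _ _ hi) _ (List.mem_map.2 ⟨_, getD_mem _ _ hj, rfl⟩))

end Cfsg.Lib.SuzPres.ElevenLocal
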